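import Cfsg.Agent.KC.R9.C0x2
import Cfsg.Agent.KC.R9.C1x2

namespace Cfsg.Agent.KC.R9

theorem s0x0 : ∀ l, l < 1 → run3 8 acc9 7 0 1 0 1 l = true
  | 0, _ => c0x0x0
  | _ + 1, h => absurd h (by omega)

theorem r0 : ∀ j, j < 1 → ∃ n3, 0 < n3 ∧ ∀ l, l < n3 → run3 8 acc9 7 0 1 j n3 l = true
  | 0, _ => ⟨1, by decide, s0x0⟩
  | _ + 1, h => absurd h (by omega)

theorem s1x0 : ∀ l, l < 1 → run3 8 acc9 7 1 3 0 1 l = true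
  | 0, _ => c1x0x0
  | _ + 1, h => absurd h (by omega)

theorem s1x1 : ∀ l, l < 1 → run3 8 acc9 7 1 3 1 1 l = true
  | 0, _ => c1x1x0
  | _ + 1, h => absurd h (by omega)

theorem s1x2 : ∀ l, l < 1 → run3 8 acc9 7 1 3 2 1 l = true
  | 0, _ => c1x2x0
  | _ + 1, h => absurd h (by omega)

theorem r1 : ∀ j, j < 3 → ∃ n3, 0 < n3 ∧ ∀ l, l < n3 → run3 8 acc9 7 1 3 j n3 l = true
  | 0, _ => ⟨1, by decide, s1x0⟩
  | 1, _ => ⟨1, by decide, s1x1⟩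
  | 2, _ => ⟨1, by decide, s1x2⟩
  | _ + 3, h => absurd h (by omega)

theorem s2x0 : ∀ l, l < 1 → run3 8 acc9 7 2 3 0 1 l = true
  | 0, _ => c2x0x0
  | _ + 1, h => absurd h (by omega)

theorem s2x1 : ∀ l, l < 1 → run3 8 acc9 7 2 3 1 1 l = true
  | 0, _ => c2x1x0
  | _ + 1, h => absurd h (by omega)

theorem s2x2 : ∀ l, l < 1 → run3 8 acc9 7 2 3 2 1 l = true
  | 0, _ => c2x2x0
  | _ + 1, h => absurd h (by omega)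

theorem r2 : ∀ j, j < 3 → ∃ n3, 0 < n3 ∧ ∀ l, l < n3 → run3 8 acc9 7 2 3 j n3 l = true
  | 0, _ => ⟨1, by decide, s2x0⟩
  | 1, _ => ⟨1, by decide, s2x1⟩
  | 2, _ => ⟨1, by decide, s2x2⟩
  | _ + 3, h => absurd h (by omega)

theorem s3x0 : ∀ l, l < 1 → run3 8 acc9 7 3 1 0 1 l = true
  | 0, _ => c3x0x0
  | _ + 1, h => absurd h (by omega)

theorem r3 : ∀ j, j < 1 → ∃ n3, 0 < n3 ∧ ∀ l, l < n3 → run3 8 acc9 7 3 1 j n3 l = true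
  | 0, _ => ⟨1, by decide, s3x0⟩
  | _ + 1, h => absurd h (by omega)

theorem s4x0 : ∀ l, l < 1 → run3 8 acc9 7 4 3 0 1 l = true
  | 0, _ => c4x0x0
  | _ + 1, h => absurd h (by omega)

theorem s4x1 : ∀ l, l < 1 → run3 8 acc9 7 4 3 1 1 l = true
  | 0, _ => c4x1x0
  | _ + 1, h => absurd h (by omega)

theorem s4x2 : ∀ l, l < 1 → run3 8 acc9 7 4 3 2 1 l = true
  | 0, _ => c4x2x0
  | _ + 1, h => absurd h (by omega)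

theorem r4 : ∀ j, j < 3 → ∃ n3, 0 < n3 ∧ ∀ l, l < n3 → run3 8 acc9 7 4 3 j n3 l = true
  | 0, _ => ⟨1, by decide, s4x0⟩
  | 1, _ => ⟨1, by decide, s4x1⟩
  | 2, _ => ⟨1, by decide, s4x2⟩
  | _ + 3, h => absurd h (by omega)

theorem s5x0 : ∀ l, l < 1 → run3 8 acc9 7 5 1 0 1 l = true
  | 0, _ => c5x0x0
  | _ + 1, h => absurd h (by omega)

theorem r5 : ∀ j, j < 1 → ∃ n3, 0 < n3 ∧ ∀ l, l < n3 → run3 8 acc9 7 5 1 j n3 l = true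
  | 0, _ => ⟨1, by decide, s5x0⟩
  | _ + 1, h => absurd h (by omega)

theorem s6x0 : ∀ l, l < 1 → run3 8 acc9 7 6 1 0 1 l = true
  | 0, _ => c6x0x0
  | _ + 1, h => absurd h (by omega)

theorem r6 : ∀ j, j < 1 → ∃ n3, 0 < n3 ∧ ∀ l, l < n3 → run3 8 acc9 7 6 1 j n3 l = true
  | 0, _ => ⟨1, by decide, s6x0⟩
  | _ + 1, h => absurd h (by omega)

theorem all1 : ∀ i, i < 7 → ∃ n2, 0 < n2 ∧ ∀ j, j < n2 → ∃ n3, 0 < n3 ∧ ∀ l, l < n3 → run3 8 acc9 7 i n2 j n3 l = true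
  | 0, _ => ⟨1, by decide, r0⟩
  | 1, _ => ⟨3, by decide, r1⟩
  | 2, _ => ⟨3, by decide, r2⟩
  | 3, _ => ⟨1, by decide, r3⟩
  | 4, _ => ⟨3, by decide, r4⟩
  | 5, _ => ⟨1, by decide, r5⟩
  | 6, _ => ⟨1, by decide, r6⟩
  | _ + 7, h => absurd h (by omega)

theorem all : Done 8 acc9 := ⟨7, by decide, all1⟩

end Cfsg.Agent.KC.R9
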